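import Cfsg.Agent.Lib.Spor.Cos.SpSixCert.A2Part0

/-! A checked coset enumeration. -/

set_option autoImplicit false
set_option maxRecDepth 100000
set_option maxHeartbeats 4000000

namespace Cfsg.Agent.Spor.Cos.SpSixCert

theorem a2_def0 : allBlock a2.chkDef 5 512 0 = true := by decide +kernel

theorem a2_defs : ∀ i, i + 1 < a2.M → a2.chkDef i = true := by
  intro i hi
  change i + 1 < 6 at hi
  refine of_allBlock (n := 5) (size := 512) (by decide) (fun j hj => ?_) (by omega)
  have hj' : j < 1 := by omega
  interval_cases j
  · exact a2_def0

theorem a2_facts : ∀ i, a2.M ≤ i + 1 → i < a2.nF → ∃ J, a2.chkFact i J = true := by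
  exact a2.facts_of_covers (a2.covers_of_part _ _ _ a2_part0) rfl rfl

theorem a2_final0 : allBlock a2.chkFinal 12 512 0 = true := by decide +kernel

theorem a2_checks : a2.Checks where
  pos := by decide +kernel
  defs := a2_defs
  facts := a2_facts
  final := by
    intro k hk
    change k < 6 * 2 at hk
    refine of_allBlock (n := 12) (size := 512) (by decide) (fun j hj => ?_) (by omega)
    have hj' : j < 1 := by omega
    interval_cases j
    · exact a2_final0

theorem a2_derived : a2.rels.all (derivedOk a2.n a2Base) = true := by decide +kernel

end Cfsg.Agent.Spor.Cos.SpSixCert
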