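import Cfsg.Agent.Lib.Spor.Cos.SpSixCert.A3Part0

/-! A checked coset enumeration. -/

set_option autoImplicit false
set_option maxRecDepth 100000
set_option maxHeartbeats 4000000

namespace Cfsg.Agent.Spor.Cos.SpSixCert

theorem a3_def0 : allBlock a3.chkDef 11 512 0 = true := by decide +kernel

theorem a3_defs : ∀ i, i + 1 < a3.M → a3.chkDef i = true := by
  intro i hi
  change i + 1 < 12 at hi
  refine of_allBlock (n := 11) (size := 512) (by decide) (fun j hj => ?_) (by omega)
  have hj' : j < 1 := by omega
  interval_cases j
  · exact a3_def0

theorem a3_facts : ∀ i, a3.M ≤ i + 1 → i < a3.nF → ∃ J, a3.chkFact i J = true := by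
  exact a3.facts_of_covers (a3.covers_of_part _ _ _ a3_part0) rfl rfl

theorem a3_final0 : allBlock a3.chkFinal 36 512 0 = true := by decide +kernel

theorem a3_checks : a3.Checks where
  pos := by decide +kernel
  defs := a3_defs
  facts := a3_facts
  final := by
    intro k hk
    change k < 12 * 3 at hk
    refine of_allBlock (n := 36) (size := 512) (by decide) (fun j hj => ?_) (by omega)
    have hj' : j < 1 := by omega
    interval_cases j
    · exact a3_final0

theorem a3_derived : a3.rels.all (derivedOk a3.n a3Base) = true := by decide +kernel

end Cfsg.Agent.Spor.Cos.SpSixCert
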