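import Cfsg.Agent.Lib.Spor.Cos.SpSixCert.A5Part0

/-! A checked coset enumeration. -/

set_option autoImplicit false
set_option maxRecDepth 100000
set_option maxHeartbeats 4000000

namespace Cfsg.Agent.Spor.Cos.SpSixCert

theorem a5_def0 : allBlock a5.chkDef 1137 512 0 = true := by decide +kernel

theorem a5_def1 : allBlock a5.chkDef 1137 512 1 = true := by decide +kernel

theorem a5_def2 : allBlock a5.chkDef 1137 512 2 = true := by decide +kernel

theorem a5_defs : ∀ i, i + 1 < a5.M → a5.chkDef i = true := by
  intro i hi
  change i + 1 < 1138 at hi
  refine of_allBlock (n := 1137) (size := 512) (by decide) (fun j hj => ?_) (by omega)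
  have hj' : j < 3 := by omega
  interval_cases j
  · exact a5_def0
  · exact a5_def1
  · exact a5_def2

theorem a5_facts : ∀ i, a5.M ≤ i + 1 → i < a5.nF → ∃ J, a5.chkFact i J = true := by
  exact a5.facts_of_covers (Log.Covers.trans a5 (a5.covers_of_part _ _ _ a5_part0) (a5.covers_of_part _ _ _ a5_part1)) rfl rfl

theorem a5_final0 : allBlock a5.chkFinal 200 512 0 = true := by decide +kernel

theorem a5_checks : a5.Checks where
  pos := by decide +kernel
  defs := a5_defs
  facts := a5_facts
  final := by
    intro k hk
    change k < 40 * 5 at hk
    refine of_allBlock (n := 200) (size := 512) (by decide) (fun j hj => ?_) (by omega)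
    have hj' : j < 1 := by omega
    interval_cases j
    · exact a5_final0

theorem a5_derived : a5.rels.all (derivedOk a5.n a5Base) = true := by decide +kernel

end Cfsg.Agent.Spor.Cos.SpSixCert
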