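import Cfsg.Agent.Lib.Spor.Cos.SpSixCert.T10Part0

/-! A checked coset enumeration. -/

set_option autoImplicit false
set_option maxRecDepth 100000
set_option maxHeartbeats 4000000

namespace Cfsg.Agent.Spor.Cos.SpSixCert

theorem t10_def0 : allBlock t10.chkDef 1883 512 0 = true := by decide +kernel

theorem t10_def1 : allBlock t10.chkDef 1883 512 1 = true := by decide +kernel

theorem t10_def2 : allBlock t10.chkDef 1883 512 2 = true := by decide +kernel

theorem t10_def3 : allBlock t10.chkDef 1883 512 3 = true := by decide +kernel

theorem t10_defs : ∀ i, i + 1 < t10.M → t10.chkDef i = true := by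
  intro i hi
  change i + 1 < 1884 at hi
  refine of_allBlock (n := 1883) (size := 512) (by decide) (fun j hj => ?_) (by omega)
  have hj' : j < 4 := by omega
  interval_cases j
  · exact t10_def0
  · exact t10_def1
  · exact t10_def2
  · exact t10_def3

theorem t10_facts : ∀ i, t10.M ≤ i + 1 → i < t10.nF → ∃ J, t10.chkFact i J = true := by
  exact t10.facts_of_covers (Log.Covers.trans t10 (Log.Covers.trans t10 (Log.Covers.trans t10 (t10.covers_of_part _ _ _ t10_part0) (t10.covers_of_part _ _ _ t10_part1)) (Log.Covers.trans t10 (t10.covers_of_part _ _ _ t10_part2) (t10.covers_of_part _ _ _ t10_part3))) (Log.Covers.trans t10 (Log.Covers.trans t10 (t10.covers_of_part _ _ _ t10_part4) (t10.covers_of_part _ _ _ t10_part5)) (Log.Covers.trans t10 (t10.covers_of_part _ _ _ t10_part6) (t10.covers_of_part _ _ _ t10_part7)))) rfl rfl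

theorem t10_final0 : allBlock t10.chkFinal 3360 512 0 = true := by decide +kernel

theorem t10_final1 : allBlock t10.chkFinal 3360 512 1 = true := by decide +kernel

theorem t10_final2 : allBlock t10.chkFinal 3360 512 2 = true := by decide +kernel

theorem t10_final3 : allBlock t10.chkFinal 3360 512 3 = true := by decide +kernel

theorem t10_final4 : allBlock t10.chkFinal 3360 512 4 = true := by decide +kernel

theorem t10_final5 : allBlock t10.chkFinal 3360 512 5 = true := by decide +kernel

theorem t10_final6 : allBlock t10.chkFinal 3360 512 6 = true := by decide +kernel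

theorem t10_checks : t10.Checks where
  pos := by decide +kernel
  defs := t10_defs
  facts := t10_facts
  final := by
    intro k hk
    change k < 336 * 10 at hk
    refine of_allBlock (n := 3360) (size := 512) (by decide) (fun j hj => ?_) (by omega)
    have hj' : j < 7 := by omega
    interval_cases j
    · exact t10_final0
    · exact t10_final1
    · exact t10_final2
    · exact t10_final3
    · exact t10_final4
    · exact t10_final5
    · exact t10_final6

theorem t10_derived : t10.rels.all (derivedOk t10.n t10Base) = true := by decide +kernel

end Cfsg.Agent.Spor.Cos.SpSixCert
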