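import Cfsg.Agent.Lib.Spor.Cos.SpSixCert.X8Part0

/-! A checked coset enumeration. -/

set_option autoImplicit false
set_option maxRecDepth 100000
set_option maxHeartbeats 4000000

namespace Cfsg.Agent.Spor.Cos.SpSixCert

theorem x8_def0 : allBlock x8.chkDef 1387 512 0 = true := by decide +kernel

theorem x8_def1 : allBlock x8.chkDef 1387 512 1 = true := by decide +kernel

theorem x8_def2 : allBlock x8.chkDef 1387 512 2 = true := by decide +kernel

theorem x8_defs : ∀ i, i + 1 < x8.M → x8.chkDef i = true := by
  intro i hi
  change i + 1 < 1388 at hi
  refine of_allBlock (n := 1387) (size := 512) (by decide) (fun j hj => ?_) (by omega)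
  have hj' : j < 3 := by omega
  interval_cases j
  · exact x8_def0
  · exact x8_def1
  · exact x8_def2

theorem x8_facts : ∀ i, x8.M ≤ i + 1 → i < x8.nF → ∃ J, x8.chkFact i J = true := by
  exact x8.facts_of_covers (Log.Covers.trans x8 (Log.Covers.trans x8 (x8.covers_of_part _ _ _ x8_part0) (Log.Covers.trans x8 (x8.covers_of_part _ _ _ x8_part1) (x8.covers_of_part _ _ _ x8_part2))) (Log.Covers.trans x8 (x8.covers_of_part _ _ _ x8_part3) (Log.Covers.trans x8 (x8.covers_of_part _ _ _ x8_part4) (x8.covers_of_part _ _ _ x8_part5)))) rfl rfl

theorem x8_final0 : allBlock x8.chkFinal 5760 512 0 = true := by decide +kernel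

theorem x8_final1 : allBlock x8.chkFinal 5760 512 1 = true := by decide +kernel

theorem x8_final2 : allBlock x8.chkFinal 5760 512 2 = true := by decide +kernel

theorem x8_final3 : allBlock x8.chkFinal 5760 512 3 = true := by decide +kernel

theorem x8_final4 : allBlock x8.chkFinal 5760 512 4 = true := by decide +kernel

theorem x8_final5 : allBlock x8.chkFinal 5760 512 5 = true := by decide +kernel

theorem x8_final6 : allBlock x8.chkFinal 5760 512 6 = true := by decide +kernel

theorem x8_final7 : allBlock x8.chkFinal 5760 512 7 = true := by decide +kernel

theorem x8_final8 : allBlock x8.chkFinal 5760 512 8 = true := by decide +kernel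

theorem x8_final9 : allBlock x8.chkFinal 5760 512 9 = true := by decide +kernel

theorem x8_final10 : allBlock x8.chkFinal 5760 512 10 = true := by decide +kernel

theorem x8_final11 : allBlock x8.chkFinal 5760 512 11 = true := by decide +kernel

theorem x8_checks : x8.Checks where
  pos := by decide +kernel
  defs := x8_defs
  facts := x8_facts
  final := by
    intro k hk
    change k < 720 * 8 at hk
    refine of_allBlock (n := 5760) (size := 512) (by decide) (fun j hj => ?_) (by omega)
    have hj' : j < 12 := by omega
    interval_cases j
    · exact x8_final0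
    · exact x8_final1
    · exact x8_final2
    · exact x8_final3
    · exact x8_final4
    · exact x8_final5
    · exact x8_final6
    · exact x8_final7
    · exact x8_final8
    · exact x8_final9
    · exact x8_final10
    · exact x8_final11

theorem x8_derived : x8.rels.all (derivedOk x8.n x8Base) = true := by decide +kernel

end Cfsg.Agent.Spor.Cos.SpSixCert
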