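import Cfsg.Agent.Lib.Spor.Cos.Log

/-!
Data of a coset enumeration with 6 cosets.
-/

set_option autoImplicit false
set_option maxRecDepth 100000
set_option maxHeartbeats 4000000

namespace Cfsg.Agent.Spor.Cos.SpSixCert

def a2FactsT0 : Tree := .leaf 0x100004000050000050000300000400002100003000011000020000000000100000

/-- The table a2Facts. -/
def a2Facts : Table := ⟨a2FactsT0, 0, 44, 6⟩

def a2FinalT0 : Tree := .leaf 0x50000240001600007000028000200000600006000020000040000400000

/-- The table a2Final. -/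
def a2Final : Table := ⟨a2FinalT0, 0, 21, 6⟩

/-- The base words of `a2`. -/
def a2Base : List (List ℕ) := [[0, 3, 0, 3], [1, 3, 1, 3], [0, 1, 0, 1, 0, 1], [2, 3, 2, 3, 2, 3], [0, 2, 0, 2, 0, 2, 0, 2], [0, 2, 1, 2, 0, 2, 1, 2], [1, 2, 1, 2, 1, 2, 1, 2]]

/-- The certificate `a2`. -/
def a2 : Log where
  n := 2
  N := 6
  M := 6
  nF := 6
  facts := a2Facts
  final := a2Final
  rels := [[0, 1, 0, 1, 0, 1]]
  sub := []

end Cfsg.Agent.Spor.Cos.SpSixCert
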