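import Cfsg.Agent.Lib.Spor.Cos.SpSixCert.A2Data

/-! Checks of the facts of a coset enumeration. -/

set_option autoImplicit false
set_option maxRecDepth 100000
set_option maxHeartbeats 4000000

namespace Cfsg.Agent.Spor.Cos.SpSixCert

theorem a2_part0 : a2.chkPart 5 6 [(1, 0x600007000040000100000002018000000c00)] = true := by decide +kernel

end Cfsg.Agent.Spor.Cos.SpSixCert
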