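import Cfsg.Agent.Lib.Spor.Cos.Log

/-!
Data of a coset enumeration with 12 cosets.
-/

set_option autoImplicit false
set_option maxRecDepth 100000
set_option maxHeartbeats 4000000

namespace Cfsg.Agent.Spor.Cos.SpSixCert

def a3FactsT0 : Tree := .leaf 0x10000b0000b10000a0000a1000090000910000700007100005000051000000000000000b0000b00000a0000a000009000090000070000700000500005000000000001000060000820000b0000820000a00006200009000040000080000420000700003000006000032000050000210000400002100003000010000020000120000100000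

/-- The table a3Facts. -/
def a3Facts : Table := ⟨a3FactsT0, 0, 44, 6⟩

def a3FinalT0 : Tree := .leaf 0xa8000bc000460001300016800084000220002b0000f8000500002c0000f000068000a40003a000120000b80002c00012000270000d8000400000e0000e0000600001400014000080000300000c0000200004000010000000004a00019

/-- The table a3Final. -/
def a3Final : Table := ⟨a3FinalT0, 0, 21, 6⟩

/-- The base words of `a3`. -/
def a3Base : List (List ℕ) := [[0, 3, 0, 3], [1, 3, 1, 3], [0, 1, 0, 1, 0, 1], [2, 3, 2, 3, 2, 3], [0, 2, 0, 2, 0, 2, 0, 2], [0, 2, 1, 2, 0, 2, 1, 2], [1, 2, 1, 2, 1, 2, 1, 2]]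

/-- The certificate `a3`. -/
def a3 : Log where
  n := 3
  N := 12
  M := 12
  nF := 24
  facts := a3Facts
  final := a3Final
  rels := [[0, 1, 0, 1, 0, 1], [0, 2, 0, 2, 0, 2, 0, 2], [0, 2, 1, 2, 0, 2, 1, 2], [1, 2, 1, 2, 1, 2, 1, 2]]
  sub := [[0], [1]]

end Cfsg.Agent.Spor.Cos.SpSixCert
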