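import Cfsg.Agent.Lib.Spor.Cos.SpSixCert.A3Data

/-! Checks of the facts of a coset enumeration. -/

set_option autoImplicit false
set_option maxRecDepth 100000
set_option maxHeartbeats 4000000

namespace Cfsg.Agent.Spor.Cos.SpSixCert

theorem a3_part0 : a3.chkPart 11 24 [(13, 0x88000a8000200000f0000a8000500001c05010000200802000068000a0000180000b000098000480001405010000180802000048000980001000007000088000400000c05010000100803000008000140001a0000c000020000000004a03020000001003000000000900000200003000048000200000405010000080802000000000000028000440003c0001000007800054000280000e02808000100400800034000380000c0000580004c000240000a028080000c04008000200000e0001100008000018000120001b018100001408010000040000a0000d000060000100000000019018100000008010000040000600009000040000080000000019018100000008008000000000000100000a0000b000070000180000402018000080c00)] = true := by decide +kernel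

end Cfsg.Agent.Spor.Cos.SpSixCert
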