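import Cfsg.Agent.Lib.Spor.Cos.Log

/-!
Data of a coset enumeration with 18 cosets.
-/

set_option autoImplicit false
set_option maxRecDepth 100000
set_option maxHeartbeats 4000000

namespace Cfsg.Agent.Spor.Cos.SpSixCert

def a4FactsT0 : Tree := .leaf 0x200011000112000100001020000f0000f20000d0000d20000b0000b30000900009300007000073000050000530000400004300003000033000020000220000000000100011000111000100001010000e0000e10000c0000c10000f0000f10000d0000d10000a0000a1000080000810000b0000b100006000061000010000110000000000000011000110000100001000000e0000e00000c0000c00000f0000f00000d0000d00000a0000a0000080000800000b0000b000006000060000010000100000000000100007000093000110000e3000100000c30000f0000a20000e0000930000d0000820000c0000730000b0000620000a00005000009000052000080000400000700004200006000031000050000310000400002000003000022000020000130000100000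

/-- The table a4Facts. -/
def a4Facts : Table := ⟨a4FactsT0, 0, 44, 6⟩

def a4FinalT0 : Tree := .node (.leaf 0xe80019c00096000330001000006c0009e000370000c80019400092000310000f00005c0009a000350000a80018c000860002b0000e00004c0008e0002f0003080006800044000110000c00003c0008a0002d0002f800058000460000d0000a00002c00082000290002e80004800012000100002d8000380000e0000c0002c80002800010000050002b80000c0000c00004000008000080007e00027000000001540007a00025) (.leaf 0x108001ac000a60003b0000f8001a4000a200039)

/-- The table a4Final. -/
def a4Final : Table := ⟨a4FinalT0, 1, 21, 6⟩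

/-- The base words of `a4`. -/
def a4Base : List (List ℕ) := [[0, 3, 0, 3], [1, 3, 1, 3], [0, 1, 0, 1, 0, 1], [2, 3, 2, 3, 2, 3], [0, 2, 0, 2, 0, 2, 0, 2], [0, 2, 1, 2, 0, 2, 1, 2], [1, 2, 1, 2, 1, 2, 1, 2]]

/-- The certificate `a4`. -/
def a4 : Log where
  n := 4
  N := 18
  M := 18
  nF := 54
  facts := a4Facts
  final := a4Final
  rels := [[0, 1, 0, 1, 0, 1], [0, 3, 0, 3], [0, 2, 0, 2, 0, 2, 0, 2], [0, 2, 1, 2, 0, 2, 1, 2], [1, 3, 1, 3], [1, 2, 1, 2, 1, 2, 1, 2], [2, 3, 2, 3, 2, 3]]
  sub := [[0], [1], [2]]

end Cfsg.Agent.Spor.Cos.SpSixCert
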