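import Cfsg.Agent.Lib.Spor.Cos.SpSixCert.A4Data

/-! Checks of the facts of a coset enumeration. -/

set_option autoImplicit false
set_option maxRecDepth 100000
set_option maxHeartbeats 4000000

namespace Cfsg.Agent.Spor.Cos.SpSixCert

theorem a4_part0 : a4.chkPart 17 54 [(23, 0x980011800024000110000d8000680002005010000280803000078001100001c0000d0000b80005800018050100002008030000e8000700008e010100005008040000c8000600008a010100004008040000580010000014000090000980004800010050100001808050000180001c0001e0000e000030000080007e030200000810050000a8000500008201010000300804000010000f80000600005000058000280000805010000100803000008000000007a010100000008040000000000000400008400040000370080800038040080007c0003c000350080800030040080004c0005c000120000880006c00034000100280800014040100003c000580000e0000680005c0002c0000c02808000100401000074000380002f00808000280400800064000300002d0080800020040080002800012000130000900002000016000290181000018080180000c0000e0000f0000700001800004000270181000004080180005400028000290080800018040080000c0000a0000b0000500001000004000270181000004080100000400000000250080800000040080000000000001c0000e0000d000080000200000802018000100c00), (14, 0x600000d800084000400001a018080002404030001780002e0001f0000f0000580602000070100c0005c000098000740003800012018080001404030001680001e000190000c0000380602000040100c0005800005800054000280000a018080000c04030001700002200010010040001402008001680001a0000c010040001002008001600001200008010040000c02020001580000e00006010040000802020001580000a00004010040000802008000040000600002000000001540403000000180c00000000000009000108000800009e010100007008040000f8000780009a01010000600804)]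 = true := by decide +kernel

end Cfsg.Agent.Spor.Cos.SpSixCert
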